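import Mathlib
import Cfsg.Agent.Schreier.ClassPOmega
import Cfsg.Agent.LieRecognition.FieldSemilinear
import Cfsg.Agent.H988.CopCyc.Base

/-!
# Coprime groups of automorphisms of the simple orthogonal groups are cyclic
-/

set_option autoImplicit false

namespace Cfsg.Agent.H988.CopCyc.Orth

open Cfsg.Agent.H988.CopCyc Cfsg.Agent.Schreier.ClassPOmega
open QuadraticMap Cfsg.Agent.LieClassical.OrthCore Cfsg.Agent.LieClassical.OrthTrans
  Cfsg.Agent.LieClassical.OrthSimple Cfsg.Agent.LieClassical.OrthForms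
  Cfsg.Agent.ClassicalGeometry.OrthSemi Cfsg.Agent.ClassicalGeometry.OrthSemiForms

open scoped commutatorElement

section general

variable {F V : Type*} [Field F] [AddCommGroup V] [Module F V] {Q : QuadraticForm F V}

/-- The square of an isometry lies in `E Q`. -/
theorem sq_mem_E [FiniteDimensional F V] (hG : Good Q) {h : V ≃ₗ[F] V} (hh : h ∈ O Q) : h * h ∈ E Q := by
  have key : h ∈ O Q ∧ h * h ∈ E Q := by
    have h1 := hh
    rw [O_eq_closure hG.nondeg] at h1
    induction h1 using Subgroup.closure_induction with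
    | mem x hx =>
      rcases hx with ⟨v, hv, rfl⟩ | ⟨u, w, hu, hw, rfl⟩
      · exact ⟨refl_mem_O hv, by rw [refl_mul_self]; exact one_mem _⟩
      · exact ⟨siegel_mem_O hu hw, mul_mem (siegel_mem_E hu hw) (siegel_mem_E hu hw)⟩
    | one => exact ⟨one_mem _, by rw [one_mul]; exact one_mem _⟩
    | mul x y hx hy ihx ihy =>
      rw [← O_eq_closure hG.nondeg] at hx hy
      obtain ⟨-, hx2⟩ := ihx hx
      obtain ⟨-, hy2⟩ := ihy hy
      refine ⟨mul_mem hx hy, ?_⟩
      have e : x * y * (x * y) = (x * x) * ⁅x⁻¹, y⁆ * (y * y) := by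
        rw [commutatorElement_def]; group
      rw [e]
      exact mul_mem (mul_mem hx2 (hG.commutator_le_E (Subgroup.commutator_mem_commutator (inv_mem hx) hy))) hy2
    | inv x hx ihx =>
      rw [← O_eq_closure hG.nondeg] at hx
      obtain ⟨-, hx2⟩ := ihx hx
      refine ⟨inv_mem hx, ?_⟩
      have e : x⁻¹ * x⁻¹ = (x * x)⁻¹ := by group
      rw [e]
      exact inv_mem hx2
  exact key.2

/-- The fourth power of a similitude is inner. -/
theorem pow_four_inner [FiniteDimensional F V] (hG : Good Q) (g : Gam Q) {l : F}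
    (hg : IsSS Q (RingEquiv.refl F) l g.1) :
    Psi Q g ^ 4 ∈ (MulAut.conj : ↥(E Q) ⧸ Subgroup.center ↥(E Q) →* _).range := by
  set u : Fˣ := Units.mk0 l hg.ne with hu
  have hscal : Psi Q (scal Q u⁻¹) = 1 := by
    rw [← MonoidHom.mem_ker, ker_Psi hG]
    exact ⟨_, rfl⟩
  set k : Gam Q := g * g * scal Q u⁻¹ with hk
  have hiso : k ∈ isom Q := by
    have hs : IsSS Q (RingEquiv.refl F) (l⁻¹ * l⁻¹) (scal Q u⁻¹).1 := by
      refine ⟨mul_ne_zero (inv_ne_zero hg.ne) (inv_ne_zero hg.ne), fun a b => ?_, fun a v => ?_, fun v => ?_⟩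
      · exact smul_add (((u⁻¹ : Fˣ) : F)) a b
      · exact smul_comm (((u⁻¹ : Fˣ) : F)) a v
      · have hui : ((u⁻¹ : Fˣ) : F) = l⁻¹ := by rw [Units.val_inv_eq_inv_val]; rfl
        rw [scal_apply, QuadraticMap.map_smul, hui]
        rfl
    have h1 := (hg.mul hg).mul hs
    have h2 : l * (RingEquiv.refl F) l * ((RingEquiv.refl F).trans (RingEquiv.refl F)) (l⁻¹ * l⁻¹) = 1 := by
      change l * l * (l⁻¹ * l⁻¹) = 1
      have := hg.ne
      field_simp
    rw [h2] at h1
    exact h1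
  obtain ⟨h, hh, hkh⟩ := exists_lin hiso
  have h3 : Psi Q g ^ 4 = Psi Q (k * k) := by
    rw [map_mul, hk, map_mul, map_mul, hscal, mul_one, show (4 : ℕ) = 2 + 2 from rfl, pow_add, pow_two]
  rw [h3]
  refine Psi_E (h := h * h) (sq_mem_E hG hh) ?_
  intro v
  change k.1 (k.1 v) = h (h v)
  rw [hkh, hkh]

theorem finite_quot [Finite F] [FiniteDimensional F V] (Q : QuadraticForm F V) :
    Finite (↥(E Q) ⧸ Subgroup.center ↥(E Q)) := by
  have h1 : Finite V := Module.finite_of_finite F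
  have h2 : Finite (V ≃ₗ[F] V) := Finite.of_injective (fun e : V ≃ₗ[F] V => (e : V → V)) DFunLike.coe_injective
  infer_instance

theorem cc_of_range [Finite F] [FiniteDimensional F V] (hG : Good Q)
    [Finite (↥(E Q) ⧸ Subgroup.center ↥(E Q))] (h2 : 2 ∣ Nat.card (↥(E Q) ⧸ Subgroup.center ↥(E Q)))
    (A : Subgroup (MulAut (↥(E Q) ⧸ Subgroup.center ↥(E Q))))
    (hA : (Nat.card A).Coprime (Nat.card (↥(E Q) ⧸ Subgroup.center ↥(E Q)))) (hA' : A ≤ (Psi Q).range) :
    IsCyclic A := by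
  have := Fintype.ofFinite F
  have hcyc : IsCyclic (F ≃+* F) := Cfsg.Agent.LieRecognition.FieldSemilinear.isCyclic_ringAut F
  refine isCyclic_of_rel (Psi Q) (fun g φ => ∃ l : F, IsSS Q φ l g.1) ?_ ?_ ?_ ?_ A hA' ?_
  · rintro ⟨g, φ, l, hg⟩
    exact ⟨φ, l, hg⟩
  · exact ⟨1, one_ne_zero, fun _ _ => rfl, fun _ _ => rfl, fun _ => by rw [one_mul]; rfl⟩
  · rintro g h φ ψ ⟨l, hg⟩ ⟨k, hh⟩
    exact ⟨_, hg.mul hh⟩
  · rintro g φ ⟨l, hg⟩
    exact ⟨_, hg.inv⟩
  · rintro g ⟨l, hg⟩ hgA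
    refine eq_one_of_pow_inner hA hgA (n := 4) ?_ (pow_four_inner hG g hg)
    intro r hr hd
    have h4 : r ∣ 2 ^ 2 := hd
    rwa [(Nat.prime_dvd_prime_iff_eq hr Nat.prime_two).1 (hr.dvd_of_dvd_pow h4)]

end general

variable {F : Type*} [Field F] [Finite F]

/-- `POmega` of an odd-dimensional form. -/
theorem cc_odd {m : ℕ} (hm : 3 ≤ m) (h20 : (2 : F) ≠ 0)
    (h2 : 2 ∣ Nat.card (Cfsg.POmega F (Cfsg.quadFormOdd m F))) :
    CC (Cfsg.POmega F (Cfsg.quadFormOdd m F)) := by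
  have := Fintype.ofFinite F
  have hG := good_odd (F := F) (m := m) (by omega) h20
  have e := pomegaEquiv hG
  rw [coe_oddForm] at e
  refine CC.of_equiv e.symm ?_
  rw [Nat.card_congr e.toEquiv] at h2
  have hfin := finite_quot (oddForm m F)
  intro A hA
  refine cc_of_range hG h2 A hA ?_
  rw [MonoidHom.range_eq_top.2 (Cfsg.Agent.AutOrth.Final.surjective_odd hm h20)]
  exact le_top

/-- `POmega` of a form of plus type. -/
theorem cc_plus {m : ℕ} (hm : 4 ≤ m) (h2 : 2 ∣ Nat.card (Cfsg.POmega F (Cfsg.quadFormPlus m F)))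
    (h3 : 3 ∣ Nat.card (Cfsg.POmega F (Cfsg.quadFormPlus m F))) :
    CC (Cfsg.POmega F (Cfsg.quadFormPlus m F)) := by
  have := Fintype.ofFinite F
  have hG := good_plus (F := F) (m := m) (by omega)
  have e := pomegaEquiv hG
  rw [coe_plusForm] at e
  refine CC.of_equiv e.symm ?_
  rw [Nat.card_congr e.toEquiv] at h2 h3
  have hfin := finite_quot (plusForm m F)
  intro A hA
  refine cc_of_range hG h2 A hA ?_
  have h2' : ¬ 2 ∣ Nat.card A := by
    intro h
    have := Nat.dvd_gcd h h2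
    rw [hA] at this
    omega
  have h3' : ¬ 3 ∣ Nat.card A := by
    intro h
    have := Nat.dvd_gcd h h3
    rw [hA] at this
    omega
  by_cases h : m = 4
  · subst h
    have hidx := Cfsg.Agent.AutOrth.Final.index_plus_four (F := F)
    exact le_of_index_le_four _ A (by rw [hidx]; norm_num) (by rw [hidx]; norm_num) h2' h3'
  · rw [MonoidHom.range_eq_top.2 (Cfsg.Agent.AutOrth.Final.surjective_plus (by omega))]
    exact le_top

/-- `POmega` of a form of minus type. -/
theorem cc_minus {m : ℕ} (hm : 4 ≤ m) (a b : F)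
    (hab : ∀ z₁ z₂ : F, z₁ ^ 2 + a * z₁ * z₂ + b * z₂ ^ 2 = 0 → z₁ = 0 ∧ z₂ = 0)
    (h2 : 2 ∣ Nat.card (Cfsg.POmega F (Cfsg.quadFormMinus (m - 1) F a b))) :
    CC (Cfsg.POmega F (Cfsg.quadFormMinus (m - 1) F a b)) := by
  have := Fintype.ofFinite F
  have hG := good_minus (F := F) (m := m - 1) (by omega) a b hab
  have e := pomegaEquiv hG
  rw [coe_minusForm] at e
  refine CC.of_equiv e.symm ?_
  rw [Nat.card_congr e.toEquiv] at h2
  have hfin := finite_quot (minusForm (m - 1) F a b)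
  intro A hA
  refine cc_of_range hG h2 A hA ?_
  rw [MonoidHom.range_eq_top.2 (Cfsg.Agent.AutOrth.Final.surjective_minus (by omega) hab)]
  exact le_top

end Cfsg.Agent.H988.CopCyc.Orth
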