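import Mathlib
import Cfsg.Agent.S0003
import Cfsg.Agent.S0004
import Cfsg.Agent.S0005
import Cfsg.Agent.H20.DPi
import Cfsg.Agent.OddOrderLocal.CyclicSub
import Cfsg.Agent.H988.CopCyc.Base

/-!
# S4077: reduction to the cyclicity of coprime groups of automorphisms
-/

set_option autoImplicit false

namespace Cfsg.Agent.H988.CopCyc

open Subgroup

/-- The largest divisor of `m` all of whose primes divide `k`. -/
theorem exists_part (k m : ℕ) (hm : m ≠ 0) : ∃ a b : ℕ, m = a * b ∧ a.Coprime b ∧ k.Coprime b ∧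
    (∀ r : ℕ, r.Prime → r ∣ a → r ∣ k) := by
  induction m using Nat.recOnPosPrimePosCoprime with
  | zero => exact absurd rfl hm
  | one => exact ⟨1, 1, rfl, by simp, by simp, fun r hr h => absurd (Nat.dvd_one.1 h) hr.one_lt.ne'⟩
  | prime_pow p n hp hn =>
    by_cases h : p ∣ k
    · refine ⟨p ^ n, 1, by simp, by simp, by simp, fun r hr h1 => ?_⟩
      rw [(Nat.prime_dvd_prime_iff_eq hr hp).1 (hr.dvd_of_dvd_pow h1)]
      exact h
    · refine ⟨1, p ^ n, by simp, by simp, ?_, fun r hr h => absurd (Nat.dvd_one.1 h) hr.one_lt.ne'⟩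
      exact (((Nat.Prime.coprime_iff_not_dvd hp).2 h).symm).pow_right n
  | coprime x y hx hy hxy ihx ihy =>
    obtain ⟨a, b, h1, h2, h3, h4⟩ := ihx (by omega)
    obtain ⟨c, d, k1, k2, k3, k4⟩ := ihy (by omega)
    subst h1 k1
    have e1 : a.Coprime d := (Nat.Coprime.coprime_mul_right (Nat.Coprime.coprime_mul_left_right hxy))
    have e2 : c.Coprime b :=
      (Nat.Coprime.coprime_mul_left (Nat.Coprime.coprime_mul_right_right hxy)).symm
    refine ⟨a * c, b * d, by ring, ?_, h3.mul_right k3, fun r hr h => ?_⟩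
    · exact Nat.Coprime.mul_left (h2.mul_right e1) (e2.mul_right k2)
    · rcases hr.dvd_mul.1 h with h | h
      exacts [h4 r hr h, k4 r hr h]

/-- In a finite cyclic group subgroups of the same order are equal. -/
theorem eq_of_card_eq {G : Type*} [Group G] [Finite G] [IsCyclic G] (H K : Subgroup G)
    (h : Nat.card H = Nat.card K) : H = K := by
  exact Cfsg.Agent.OddOrderLocal.CyclicSub.eq_of_card_eq_of_isCyclic h

/-- In a finite cyclic group every divisor of the order is the order of a subgroup. -/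
theorem exists_card {G : Type*} [Group G] [Finite G] [IsCyclic G] {k : ℕ} (h : k ∣ Nat.card G) :
    ∃ H : Subgroup G, Nat.card H = k := by
  obtain ⟨g, hg⟩ := IsCyclic.exists_generator (α := G)
  obtain ⟨m, hm⟩ := h
  have ho : orderOf g = Nat.card G := orderOf_eq_card_of_forall_mem_zpowers hg
  have hpos : 0 < Nat.card G := Nat.card_pos
  have hm0 : 0 < m := by
    rcases Nat.eq_zero_or_pos m with h | h
    · subst h; omega
    · exact h
  refine ⟨zpowers (g ^ m), ?_⟩
  rw [Nat.card_zpowers, orderOf_pow, ho, hm, Nat.gcd_eq_right ⟨k, by ring⟩, Nat.mul_div_cancel _ hm0]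

theorem eq_of_le_cyclic {G : Type*} [Group G] [Finite G] {M U L : Subgroup G} (hM : IsCyclic M) (hU : U ≤ M)
    (hL : L ≤ M) (h : Nat.card U = Nat.card L) : U = L := by
  have h1 : U.subgroupOf M = L.subgroupOf M := by
    apply eq_of_card_eq
    rw [Nat.card_congr (Subgroup.subgroupOfEquivOfLe hU).toEquiv,
      Nat.card_congr (Subgroup.subgroupOfEquivOfLe hL).toEquiv, h]
  rw [← Subgroup.map_subgroupOf_eq_of_le hU, ← Subgroup.map_subgroupOf_eq_of_le hL, h1]

/-- Abstract form: `N` normal in `Y`, `Y ⧸ N` solvable, subgroups of order prime to `|N|` are cyclic. -/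
theorem abs {Y : Type*} [Group Y] [Finite Y] (N : Subgroup Y) [N.Normal] (hsol : Group.IsSolvable (Y ⧸ N))
    (hc : ∀ A : Subgroup Y, (Nat.card A).Coprime (Nat.card N) → IsCyclic A) (k : ℕ) (hk : k ∣ Nat.card Y)
    (hcop : k.Coprime (Nat.card N)) :
    (∃ K : Subgroup Y, Nat.card K = k) ∧
    (∀ K L : Subgroup Y, Nat.card K = k → Nat.card L = k →
      IsCyclic K ∧ ∃ g : Y, L = K.map (MulAut.conj g).toMonoidHom) := by
  have hcard : Nat.card Y = Nat.card (Y ⧸ N) * Nat.card N := Subgroup.card_eq_card_quotient_mul_card_subgroup N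
  have hkq : k ∣ Nat.card (Y ⧸ N) := by
    rw [hcard] at hk
    exact hcop.dvd_of_dvd_mul_right hk
  obtain ⟨a, b, hab, hcab, hkb, hak⟩ := exists_part k (Nat.card (Y ⧸ N)) Nat.card_pos.ne'
  have hka : k ∣ a := by
    rw [hab] at hkq
    exact hkb.dvd_of_dvd_mul_right hkq
  have haN : (Nat.card N).Coprime a := by
    rw [Nat.coprime_iff_gcd_eq_one]
    by_contra h
    obtain ⟨r, hr, hd⟩ := Nat.exists_prime_and_dvd h
    have h1 := hak r hr (hd.trans (Nat.gcd_dvd_right _ _))
    have h2 : r ∣ Nat.gcd k (Nat.card N) := Nat.dvd_gcd h1 (hd.trans (Nat.gcd_dvd_left _ _))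
    rw [hcop] at h2
    exact hr.one_lt.ne' (Nat.dvd_one.1 h2)
  -- a Hall subgroup of the quotient is cyclic
  have hHall : ∀ Q : Subgroup (Y ⧸ N), Nat.card Q = a → IsCyclic Q ∧ ∃ H : Subgroup Y, Nat.card H = a ∧
      H.map (QuotientGroup.mk' N) = Q := by
    intro Q hQ
    set M : Subgroup Y := Q.comap (QuotientGroup.mk' N) with hM
    have hNM : N ≤ M := by
      intro x hx
      rw [hM, mem_comap]
      have : QuotientGroup.mk' N x = 1 := (QuotientGroup.eq_one_iff x).2 hx
      rw [this]; exact one_mem _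
    have hidx : (N.subgroupOf M).index = a := by
      have h1 : N.relIndex M = Nat.card Q := by
        have h2 : M.map (QuotientGroup.mk' N) = Q :=
          map_comap_eq_self_of_surjective (QuotientGroup.mk'_surjective N) Q
        rw [← h2]
        have h3 := Subgroup.relIndex_ker (QuotientGroup.mk' N) (K := M)
        rw [QuotientGroup.ker_mk'] at h3
        exact h3
      rw [← hQ, ← h1]; rfl
    have hcN : Nat.card (N.subgroupOf M) = Nat.card N := Nat.card_congr (Subgroup.subgroupOfEquivOfLe hNM).toEquiv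
    obtain ⟨H, hH⟩ := exists_right_complement'_of_coprime (N := N.subgroupOf M) (by rw [hcN, hidx]; exact haN)
    have hHc : Nat.card H = a := by rw [← hidx, hH.symm.index_eq_card]
    have hHc' : Nat.card (H.map M.subtype) = a := by
      rw [← hHc]
      exact Nat.card_congr (H.equivMapOfInjective M.subtype M.subtype_injective).symm.toEquiv
    have hcyc : IsCyclic (H.map M.subtype) := hc _ (by rw [hHc']; exact haN.symm)
    have hmap : (H.map M.subtype).map (QuotientGroup.mk' N) = Q := by
      have h1 : (H.map M.subtype).map (QuotientGroup.mk' N) ≤ Q := by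
        rintro _ ⟨_, ⟨⟨x, hx⟩, -, rfl⟩, rfl⟩
        exact hx
      apply eq_of_le_of_card_ge h1
      rw [hQ, ← hHc']
      have hdis : ∀ x ∈ H.map M.subtype, QuotientGroup.mk' N x = 1 → x = 1 := by
        intro x hx h2
        have h3 : x ∈ N := (QuotientGroup.eq_one_iff x).1 h2
        have h4 : orderOf x ∣ Nat.card N := by
          have : orderOf (⟨x, h3⟩ : N) ∣ Nat.card N := orderOf_dvd_natCard _
          rwa [← Subgroup.orderOf_coe] at this
        have h5 : orderOf x ∣ a := by
          have : orderOf (⟨x, hx⟩ : H.map M.subtype) ∣ Nat.card (H.map M.subtype) := orderOf_dvd_natCard _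
          rwa [← Subgroup.orderOf_coe, hHc'] at this
        have h6 : orderOf x ∣ 1 := by rw [← haN]; exact Nat.dvd_gcd h4 h5
        exact orderOf_eq_one_iff.1 (Nat.dvd_one.1 h6)
      let f : (H.map M.subtype) →* ((H.map M.subtype).map (QuotientGroup.mk' N)) :=
        (QuotientGroup.mk' N).subgroupMap (H.map M.subtype)
      have hf : Function.Injective f := by
        rw [injective_iff_map_eq_one]
        rintro ⟨x, hx⟩ h2
        exact Subtype.ext (hdis x hx (congrArg Subtype.val h2))
      exact Nat.card_le_card_of_injective f hf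
    refine ⟨?_, _, hHc', hmap⟩
    rw [← hmap]
    exact isCyclic_of_surjective ((QuotientGroup.mk' N).subgroupMap (H.map M.subtype))
      ((QuotientGroup.mk' N).subgroupMap_surjective _)
  refine ⟨?_, ?_⟩
  · obtain ⟨Q, hQ⟩ := Cfsg.Agent.S0003.result a b hab hcab
    obtain ⟨-, H, hH, -⟩ := hHall Q hQ
    have hcyc : IsCyclic H := hc H (by rw [hH]; exact haN.symm)
    obtain ⟨K, hK⟩ := exists_card (G := H) (k := k) (by rw [hH]; exact hka)
    exact ⟨K.map H.subtype, by
      rw [← hK]; exact Nat.card_congr (K.equivMapOfInjective H.subtype H.subtype_injective).symm.toEquiv⟩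
  · intro K L hK hL
    refine ⟨hc K (by rw [hK]; exact hcop), ?_⟩
    have hdis : ∀ U : Subgroup Y, Nat.card U = k → Nat.card (U.map (QuotientGroup.mk' N)) = k := by
      intro U hU
      let f : U →* (U.map (QuotientGroup.mk' N)) := (QuotientGroup.mk' N).subgroupMap U
      have hf : Function.Injective f := by
        rw [injective_iff_map_eq_one]
        rintro ⟨x, hx⟩ h2
        have h2' : QuotientGroup.mk' N x = 1 := congrArg Subtype.val h2
        have h3 : x ∈ N := (QuotientGroup.eq_one_iff x).1 h2'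
        have h4 : orderOf x ∣ Nat.card N := by
          have : orderOf (⟨x, h3⟩ : N) ∣ Nat.card N := orderOf_dvd_natCard _
          rwa [← Subgroup.orderOf_coe] at this
        have h5 : orderOf x ∣ k := by
          have : orderOf (⟨x, hx⟩ : U) ∣ Nat.card U := orderOf_dvd_natCard _
          rwa [← Subgroup.orderOf_coe, hU] at this
        have h6 : orderOf x ∣ 1 := by rw [← hcop]; exact Nat.dvd_gcd h5 h4
        exact Subtype.ext (orderOf_eq_one_iff.1 (Nat.dvd_one.1 h6))
      rw [← hU]
      exact (Nat.card_congr (Equiv.ofBijective f ⟨hf, (QuotientGroup.mk' N).subgroupMap_surjective U⟩)).symm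
    have hcop2 : k.Coprime b := hkb
    obtain ⟨Q1, hQ1, hKQ⟩ := Cfsg.Agent.S0005.result a b hab hcab (K.map (QuotientGroup.mk' N))
      (by rw [hdis K hK]; exact hcop2)
    obtain ⟨Q2, hQ2, hLQ⟩ := Cfsg.Agent.S0005.result a b hab hcab (L.map (QuotientGroup.mk' N))
      (by rw [hdis L hL]; exact hcop2)
    obtain ⟨g, hg⟩ := Cfsg.Agent.S0004.result a b hab hcab Q1 Q2 hQ1 hQ2
    obtain ⟨y, rfl⟩ := QuotientGroup.mk'_surjective N g
    -- `K' = y K y⁻¹` and `L` have the same image
    set K' : Subgroup Y := K.map (MulAut.conj y).toMonoidHom with hK'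
    have hK'c : Nat.card K' = k := by
      rw [← hK]
      exact Nat.card_congr (K.equivMapOfInjective (MulAut.conj y).toMonoidHom (MulAut.conj y).injective).symm.toEquiv
    have h1 : K'.map (QuotientGroup.mk' N) ≤ Q2 := by
      rw [← hg]
      rintro _ ⟨_, ⟨x, hx, rfl⟩, rfl⟩
      refine ⟨QuotientGroup.mk' N x, hKQ ⟨x, hx, rfl⟩, ?_⟩
      change QuotientGroup.mk' N y * QuotientGroup.mk' N x * (QuotientGroup.mk' N y)⁻¹ = QuotientGroup.mk' N (y * x * y⁻¹)
      rw [map_mul, map_mul, map_inv]
    have h2 : K'.map (QuotientGroup.mk' N) = L.map (QuotientGroup.mk' N) :=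
      eq_of_le_cyclic (hHall Q2 hQ2).1 h1 hLQ (by rw [hdis K' hK'c, hdis L hL])
    have h3 : N ⊔ K' = N ⊔ L := by
      have h4 := congrArg (Subgroup.comap (QuotientGroup.mk' N)) h2
      rw [comap_map_eq, comap_map_eq, QuotientGroup.ker_mk'] at h4
      rw [sup_comm, h4, sup_comm]
    obtain ⟨z, hz⟩ := Cfsg.Agent.H20.DPi.conj_of_coprime_in N K' L (by rw [hK'c]; exact hcop.symm) h3
      (by rw [hL]; exact hcop.symm)
    refine ⟨z * y, ?_⟩
    rw [← hz, hK', Cfsg.Agent.H20.DPi.conj_map_map]

end Cfsg.Agent.H988.CopCyc
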