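import Mathlib
import Cfsg.Agent.S0000
import Cfsg.Agent.H988.CopCyc.Spor

/-!
# Coprime groups of automorphisms of finite simple groups are cyclic

`cc` : if `K` is a nonabelian finite simple group, every group of automorphisms of `K` of order prime to `|K|` is
cyclic.
-/

set_option autoImplicit false

namespace Cfsg.Agent.H988.CopCyc.Main

open Cfsg Cfsg.Agent.H988.CopCyc

universe u

/-- **Groups of automorphisms of a nonabelian finite simple group of order prime to the order of the group are
cyclic.** -/
theorem cc {K : Type u} [Group K] [Finite K] [IsSimpleGroup K] (hK : ¬ IsMulCommutative K) : CC K :=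
  cc_of_known hK Cfsg.Agent.S0000.result

end Cfsg.Agent.H988.CopCyc.Main
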